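import Cfsg.Agent.Lib.Schur.GTwoThree.Data
import Cfsg.Agent.Lib.Sporadic.OutCert.Perm

/-!
Kernel checks of the triple cover of `G₂(3)` on 351 lines.
-/

set_option autoImplicit false
set_option maxRecDepth 100000
set_option maxHeartbeats 0

namespace CfsgLib.Schur.GTwoThree

open CfsgLib.Sporadic.OutCert

/-- The entry of a pair of lines. -/
noncomputable def tabN (i j : ℕ) : ℕ := lk 11 (tabK.getD i 0) j

/-- The image of a line under a generator. -/
noncomputable def imN (m i : ℕ) : ℕ := lk 9 (baseK.getD m 0) i

/-- The shift at a line of a generator. -/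
noncomputable def shN (m i : ℕ) : ℕ := lk 2 (cK.getD m 0) i

/-- A generator respects the entry of a pair. -/
noncomputable def goodK (m i : ℕ) : Bool :=
  allF (fun j =>
    let v := tabN i j
    Nat.beq v 0 ||
      (let k := (v - 1) / 3
       Nat.beq (tabN (imN m i) (imN m j))
        (1 + 3 * imN m k + ((v - 1) % 3 + shN m i + shN m j + shN m k) % 3))) 351

theorem good_all : allF (fun m => allF (goodK m) 351) 4 = true := by decide +kernel

theorem base_place : allF (fun m => Nat.beq (baseK.getD m 0) (trK.getD (baseIx.getD m 0) 0) &&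
    Nat.blt (baseIx.getD m 0) 24 && Nat.beq (baseIx.getD m 0 % 2) 0) 4 = true := by decide +kernel

/-- A root element is the stored word in the generators. -/
noncomputable def wordOK (q : ℕ) : Bool :=
  (trW.getD q []).all (fun m => Nat.blt m 4) &&
    allF (fun i => Nat.beq (List.rec (motive := fun _ => ℕ) i (fun m _ ih => imN m ih) (trW.getD q []))
      (lk 9 (trK.getD q 0) i)) 351

theorem word_all : allF wordOK 24 = true := by decide +kernel

/-- A triple is listed. -/
noncomputable def triOK (i j k : ℕ) : Bool :=
  Nat.blt i 351 && Nat.blt j 351 && Nat.blt k 351 && Nat.blt 0 (tabN i j) && Nat.beq ((tabN i j - 1) / 3) k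

/-- The multiplicity of a line in a combination. -/
def cnt : List (ℕ × ℕ × ℕ × ℕ) → ℕ → ℕ
  | [], _ => 0
  | (i, j, k, a) :: l, x => (bif Nat.beq i x then a else 0) + (bif Nat.beq j x then a else 0) +
      (bif Nat.beq k x then a else 0) + cnt l x

/-- A combination compares a seed with the first line. -/
noncomputable def combK (n : ℕ) : Bool :=
  let l := combs.getD n []
  let s := seeds.getD (n + 1) 0
  l.all (fun q => triOK q.1 q.2.1 q.2.2.1) &&
    allF (fun x => Nat.beq (cnt l x % 3) (bif Nat.beq x s then 1 else bif Nat.beq x 0 then 2 else 0)) 351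

theorem comb_all : allF combK 6 = true ∧ seeds.getD 0 1 = 0 ∧ seeds.length = 7 ∧
    seeds.all (fun s => Nat.blt s 351) = true := by decide +kernel

/-- The steps reach new lines from known ones. -/
noncomputable def stepsK : List (ℕ × ℕ × ℕ) → List ℕ → Bool
  | [], known => allF (fun x => known.any fun y => Nat.beq y x) 351
  | (i, j, k) :: st, known =>
    triOK i j k && (known.any fun y => Nat.beq y i) && (known.any fun y => Nat.beq y j) && stepsK st (k :: known)

theorem steps_ok : stepsK steps seeds = true := by decide +kernel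

/-- A point of the cover under a generator. -/
noncomputable def actN (m : ℕ) (x : ℕ × ℕ) : ℕ × ℕ := (imN m x.1, (x.2 + shN m x.1) % 3)

/-- A point of the cover under a word. -/
noncomputable def actW (w : List ℕ) (x : ℕ × ℕ) : ℕ × ℕ :=
  List.rec (motive := fun _ => ℕ × ℕ) x (fun m _ ih => actN m ih) w

/-- A commutator is the shift. -/
noncomputable def commK (i : ℕ) : Bool :=
  allF (fun a =>
    let u := actW [0, 2, 0, 2, 0, 2] (i, a)
    let v := actW [2, 0, 2, 0, 2, 0] (i, a)
    Nat.beq u.1 v.1 && Nat.beq u.2 ((v.2 + 1) % 3)) 3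

theorem comm_all : allF commK 351 = true := by decide +kernel

end CfsgLib.Schur.GTwoThree
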