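import Cfsg.Agent.Lib.Schur.GTwoThree.Model
import Cfsg.Agent.Lib.Schur.GTwoThree.CoverCheck
import Cfsg.Agent.Lib.Schur.Basic

/-!
The triple cover of `G₂(3)` as permutations of 351 lines times three sheets.
-/

set_option autoImplicit false
set_option maxRecDepth 20000

namespace CfsgLib.Schur.GTwoThree

open Cfsg.Lie CfsgLib.Sporadic.OutCert Subgroup
open scoped commutatorElement

attribute [local irreducible] tabN imN shN lk

/-- The points of the cover. -/
abbrev Sheet : Type := Fin 351 × K3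

/-- A permutation of the lines with shifts. -/
def liftP (p : Equiv.Perm (Fin 351)) (c : Fin 351 → K3) : Equiv.Perm Sheet where
  toFun x := (p x.1, x.2 + c x.1)
  invFun x := (p.symm x.1, x.2 - c (p.symm x.1))
  left_inv x := by simp
  right_inv x := by simp

theorem liftP_mul (p q : Equiv.Perm (Fin 351)) (c d : Fin 351 → K3) :
    liftP p c * liftP q d = liftP (p * q) (fun i => d i + c (q i)) :=
  Equiv.ext fun x => Prod.ext rfl (add_assoc _ _ _)

theorem liftP_inj {p q : Equiv.Perm (Fin 351)} {c d : Fin 351 → K3} (h : liftP p c = liftP q d) :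
    p = q ∧ c = d :=
  ⟨Equiv.ext fun i => congrArg Prod.fst (Equiv.congr_fun h (i, 0)),
    funext fun i => by simpa [liftP] using congrArg Prod.snd (Equiv.congr_fun h (i, 0))⟩

/-- Shifts compatible with the triples. -/
def Good (p : Equiv.Perm (Fin 351)) (c : Fin 351 → K3) : Prop :=
  ∀ (i j k : Fin 351) (f : K3), tabN i j = 1 + 3 * k.val + f.val →
    tabN (p i) (p j) = 1 + 3 * (p k).val + (f + c i + c j + c k).val

theorem good_one : Good 1 0 := fun i j k f h => by simpa using h

theorem good_mul {p q : Equiv.Perm (Fin 351)} {c d : Fin 351 → K3} (hp : Good p c) (hq : Good q d) :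
    Good (p * q) (fun i => d i + c (q i)) := fun i j k f h => by
  rw [Equiv.Perm.mul_apply, Equiv.Perm.mul_apply, Equiv.Perm.mul_apply, hp _ _ _ _ (hq i j k f h)]
  congr 2
  ring

/-- The permutations with compatible shifts. -/
def movers : Subgroup (Equiv.Perm Sheet) where
  carrier := {π | ∃ p c, π = liftP p c ∧ Good p c}
  one_mem' := ⟨1, 0, Equiv.ext fun x => by simp [liftP], good_one⟩
  mul_mem' := by
    rintro _ _ ⟨p, c, rfl, hp⟩ ⟨q, d, rfl, hq⟩
    exact ⟨_, _, liftP_mul p q c d, good_mul hp hq⟩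
  inv_mem' := by
    rintro g ⟨p, c, rfl, hp⟩
    have h : ∀ n : ℕ, ∃ q d, liftP p c ^ n = liftP q d ∧ Good q d := by
      intro n
      induction n with
      | zero => exact ⟨1, 0, Equiv.ext fun x => by simp [liftP], good_one⟩
      | succ n ih =>
        obtain ⟨q, d, e, hq⟩ := ih
        exact ⟨_, _, by rw [pow_succ, e, liftP_mul], good_mul hq hp⟩
    have hg' : (liftP p c)⁻¹ = liftP p c ^ (orderOf (liftP p c) - 1) := inv_eq_of_mul_eq_one_right (by
      rw [← pow_succ', Nat.sub_add_cancel (orderOf_pos _), pow_orderOf_eq_one])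
    rw [Set.mem_setOf_eq, hg']
    exact h _

theorem gen_root (m : Fin 4) : ∃ g : G, Rep 9 351 (baseK.getD m 0) (psi g) := by
  have h := allF_iff.1 base_place m m.2
  simp only [Bool.and_eq_true, Nat.beq_eq, Nat.blt_eq] at h
  obtain ⟨g, hg⟩ := exists_root (⟨baseIx.getD m 0 / 2,
    (Nat.div_lt_iff_lt_mul two_pos).2 (h.1.2.trans_le (by decide))⟩ : Fin chevG2.nroots)
  refine ⟨g, ?_⟩
  have h2 := rep_root (g := g) (t := (0 : Fin 2)) (by simpa using hg)
  rwa [h.1.1, show baseIx.getD m 0 = 2 * (baseIx.getD m 0 / 2) + ((0 : Fin 2) : ℕ) by simp only [Fin.val_zero, add_zero]; omega]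

/-- The four generators of the group. -/
noncomputable def gen (m : Fin 4) : G := (gen_root m).choose

theorem gen_rep (m : Fin 4) : Rep 9 351 (baseK.getD m 0) (psi (gen m)) := (gen_root m).choose_spec

/-- The shifts of a lifted generator. -/
noncomputable def sh (m : Fin 4) (i : Fin 351) : K3 := ((shN m i : ℕ) : K3)

/-- The lifted generators. -/
noncomputable def lgen (m : Fin 4) : Equiv.Perm Sheet := liftP (psi (gen m)) (sh m)

theorem imN_eq (m : Fin 4) (i : Fin 351) : imN m i = (psi (gen m) i : ℕ) := by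
  unfold imN
  exact gen_rep m i

theorem lgen_mem (m : Fin 4) : lgen m ∈ movers := by
  refine ⟨_, _, rfl, fun i j k f h => ?_⟩
  have hb := allF_iff.1 (allF_iff.1 (allF_iff.1 good_all m m.2) i i.2) j j.2
  have hf : f.val < 3 := ZMod.val_lt f
  have hk : (tabN i j - 1) / 3 = k.val ∧ (tabN i j - 1) % 3 = f.val := by omega
  simp only [Bool.or_eq_true, Nat.beq_eq, hk] at hb
  rcases hb with hb | hb
  · omega
  rw [← imN_eq m i, ← imN_eq m j, hb, ← imN_eq m k]
  congr 1
  simp only [sh]
  rw [← ZMod.natCast_zmod_val f, ← Nat.cast_add, ← Nat.cast_add, ← Nat.cast_add, ZMod.val_natCast,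
    ZMod.val_natCast, Nat.mod_eq_of_lt hf]

/-- The cover. -/
noncomputable abbrev Gam : Subgroup (Equiv.Perm Sheet) := Subgroup.closure (Set.range lgen)

theorem gam_le : Gam ≤ movers := (Subgroup.closure_le _).2 (by rintro _ ⟨m, rfl⟩; exact lgen_mem m)

/-- The underlying permutation of the lines. -/
noncomputable def sigma₁ : Gam →* Equiv.Perm (Fin 351) :=
  MonoidHom.mk' (fun π => (gam_le π.2).choose) fun a b => by
    obtain ⟨c, ea, -⟩ := (gam_le a.2).choose_spec
    obtain ⟨d, eb, -⟩ := (gam_le b.2).choose_spec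
    obtain ⟨e, eab, -⟩ := (gam_le (a * b).2).choose_spec
    have eab' : (a : Equiv.Perm Sheet) * (b : Equiv.Perm Sheet) = _ := eab
    exact (liftP_inj (eab'.symm.trans ((congrArg₂ (· * ·) ea eb).trans (liftP_mul _ _ c d)))).1

theorem sigma₁_spec (π : Gam) : ∃ c, (π : Equiv.Perm Sheet) = liftP (sigma₁ π) c ∧ Good (sigma₁ π) c :=
  (gam_le π.2).choose_spec

/-- A lifted generator in the cover. -/
noncomputable def gG (m : Fin 4) : Gam := ⟨lgen m, Subgroup.subset_closure ⟨m, rfl⟩⟩

theorem sigma₁_gen (m : Fin 4) : sigma₁ (gG m) = psi (gen m) := by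
  obtain ⟨c, e, -⟩ := sigma₁_spec (gG m)
  exact (liftP_inj e).1.symm

theorem gG_closure : Subgroup.closure (Set.range gG) = ⊤ := by
  apply Subgroup.map_injective Gam.subtype_injective
  rw [MonoidHom.map_closure, ← Set.range_comp, ← MonoidHom.range_eq_map, Subgroup.range_subtype]
  rfl

theorem sigma₁_range_le : sigma₁.range ≤ psi.range := by
  rw [MonoidHom.range_eq_map, ← gG_closure, MonoidHom.map_closure, Subgroup.closure_le]
  rintro _ ⟨_, ⟨m, rfl⟩, rfl⟩
  exact ⟨gen m, (sigma₁_gen m).symm⟩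

theorem word_mem {q : ℕ} (hq : q < 24) {g : G} (hg : Rep 9 351 (trK.getD q 0) (psi g)) :
    psi g ∈ sigma₁.range := by
  have h := allF_iff.1 word_all q hq
  simp only [wordOK, Bool.and_eq_true, List.all_eq_true, Nat.blt_eq, allF_iff, Nat.beq_eq] at h
  obtain ⟨hl, he⟩ := h
  have key : ∀ l : List ℕ, (∀ m ∈ l, m < 4) → ∃ π : Gam, ∀ i : Fin 351,
      List.rec (motive := fun _ => ℕ) (i : ℕ) (fun m _ ih => imN m ih) l = (sigma₁ π i : ℕ) := by
    intro l hl
    induction l with
    | nil => exact ⟨1, fun i => by simp⟩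
    | cons m l ih =>
      obtain ⟨π, hπ⟩ := ih fun x hx => hl x (List.mem_cons_of_mem _ hx)
      refine ⟨gG ⟨m, hl m List.mem_cons_self⟩ * π, fun i => ?_⟩
      show imN m _ = _
      rw [hπ i, map_mul, Equiv.Perm.mul_apply, sigma₁_gen, imN_eq ⟨m, hl m List.mem_cons_self⟩]
  obtain ⟨π, hπ⟩ := key _ hl
  exact ⟨π, Equiv.ext fun i => Fin.ext (((hπ i).symm.trans (he i i.2)).trans (hg i))⟩

theorem psi_mem : ∀ g : G, psi g ∈ sigma₁.range := by
  have h : chevG2.group K3 ≤ (sigma₁.range.comap psi).map (chevG2.group K3).subtype := by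
    refine (Subgroup.closure_le _).2 fun x hx => ?_
    refine ⟨⟨x, Subgroup.subset_closure hx⟩, ?_, rfl⟩
    rcases gen_cases hx with rfl | ⟨r, t, hr⟩
    · exact one_mem _
    · have hm : 2 * r.val + t.val < 24 := by have := r.isLt; have : chevG2.nroots = 12 := rfl; omega
      exact word_mem hm (rep_root hr)
  intro g
  obtain ⟨y, hy, e⟩ := h g.2
  obtain rfl : y = g := Subtype.ext e
  exact hy

/-- The projection. -/
noncomputable def sigma : Gam →* G :=
  (MonoidHom.ofInjective psi_injective).symm.toMonoidHom.comp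
    (sigma₁.codRestrict psi.range fun π => sigma₁_range_le ⟨π, rfl⟩)

theorem psi_sigma (π : Gam) : psi (sigma π) = sigma₁ π := by
  have h := (MonoidHom.ofInjective psi_injective).apply_symm_apply
    (sigma₁.codRestrict psi.range (fun π => sigma₁_range_le ⟨π, rfl⟩) π)
  exact congrArg Subtype.val h

theorem sigma_surjective : Function.Surjective sigma := fun g => by
  obtain ⟨π, hπ⟩ := psi_mem g
  exact ⟨π, psi_injective ((psi_sigma π).trans hπ)⟩

theorem sum_cnt (e : Fin 351 → K3) : ∀ l : List (ℕ × ℕ × ℕ × ℕ),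
    (∀ q ∈ l, ∃ i j k : Fin 351, (q.1, q.2.1, q.2.2.1) = (i.val, j.val, k.val) ∧ e i + e j + e k = 0) →
      ∑ x : Fin 351, ((cnt l x : ℕ) : K3) * e x = 0
  | [], _ => by simp [cnt]
  | (i, j, k, a) :: l, h => by
    obtain ⟨i', j', k', hq, hz⟩ := h _ List.mem_cons_self
    simp only [Prod.mk.injEq] at hq
    obtain ⟨rfl, rfl, rfl⟩ := hq
    have hone : ∀ y : Fin 351, ∑ x : Fin 351, (((bif Nat.beq y.val x.val then a else 0) : ℕ) : K3) * e x =
        (a : K3) * e y := by
      intro y
      rw [Finset.sum_eq_single y]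
      · rw [show Nat.beq y.val y.val = true from Nat.beq_eq ▸ rfl, cond_true]
      · intro x _ hx
        rw [show Nat.beq y.val x.val = false from
          Bool.eq_false_iff.2 fun e => hx (Fin.ext (Nat.eq_of_beq_eq_true e).symm), cond_false, Nat.cast_zero, zero_mul]
      · exact fun h => absurd (Finset.mem_univ y) h
    simp only [cnt, Nat.cast_add, add_mul, Finset.sum_add_distrib, hone,
      sum_cnt e l fun q hq => h q (List.mem_cons_of_mem _ hq), add_zero, ← mul_add, hz, mul_zero]

theorem const_of_good {e : Fin 351 → K3} (h : Good 1 e) (x : Fin 351) : e x = e 0 := by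
  have tri : ∀ i j k : ℕ, triOK i j k = true → ∃ i' j' k' : Fin 351,
      (i, j, k) = (i'.val, j'.val, k'.val) ∧ e i' + e j' + e k' = 0 := by
    intro i j k ht
    simp only [triOK, Bool.and_eq_true, Nat.blt_eq, Nat.beq_eq] at ht
    obtain ⟨⟨⟨⟨hi, hj⟩, hk⟩, hv⟩, hd⟩ := ht
    refine ⟨⟨i, hi⟩, ⟨j, hj⟩, ⟨k, hk⟩, rfl, ?_⟩
    have hf : (((tabN i j - 1) % 3 : ℕ) : K3).val = (tabN i j - 1) % 3 := by
      rw [ZMod.val_natCast, Nat.mod_mod]
    have e0 : tabN i j = 1 + 3 * k + (((tabN i j - 1) % 3 : ℕ) : K3).val := by rw [hf]; omega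
    have e1 := h ⟨i, hi⟩ ⟨j, hj⟩ ⟨k, hk⟩ _ e0
    simp only [Equiv.Perm.one_apply] at e1
    have e2 := ZMod.val_injective 3 (Nat.add_left_cancel (e0.symm.trans e1))
    rwa [add_assoc, add_assoc, left_eq_add, ← add_assoc] at e2
  obtain ⟨hc, h0, hlen, hlt⟩ := comb_all
  have hseed : ∀ s ∈ seeds, ∀ hs : s < 351, e ⟨s, hs⟩ = e 0 := by
    intro s hsm hs
    obtain ⟨n, hn, rfl⟩ := List.getElem_of_mem hsm
    rcases n with _ | n
    · have : seeds[0] = 0 := by rw [← List.getD_eq_getElem _ 1 hn]; exact h0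
      exact congrArg e (Fin.ext this)
    have hb := allF_iff.1 hc n (by omega)
    simp only [combK, Bool.and_eq_true, List.all_eq_true, allF_iff, Nat.beq_eq] at hb
    obtain ⟨hl, hcn⟩ := hb
    have hsum := sum_cnt e _ fun q hq => tri _ _ _ (hl q hq)
    rw [List.getD_eq_getElem _ _ hn] at hcn
    set y : Fin 351 := ⟨seeds[n + 1], hs⟩ with hy
    have hval : ∀ x : Fin 351, ((cnt (combs.getD n []) x : ℕ) : K3) * e x =
        (if x = y then e x else 0) + (if x = y then 0 else if x = 0 then (2 : K3) * e x else 0) := by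
      intro x
      rw [← ZMod.natCast_mod, hcn x x.2]
      by_cases hxy : x = y
      · subst hxy
        rw [show Nat.beq y.val seeds[n + 1] = true from Nat.beq_eq ▸ rfl]
        simp
      rw [show Nat.beq x.val seeds[n + 1] = false from
        Bool.eq_false_iff.2 fun e => hxy (Fin.ext (Nat.eq_of_beq_eq_true e)), cond_false, if_neg hxy, if_neg hxy,
        zero_add]
      by_cases hx0 : x = 0
      · subst hx0
        simp
      · rw [show Nat.beq x.val 0 = false from
          Bool.eq_false_iff.2 fun e => hx0 (Fin.ext (Nat.eq_of_beq_eq_true e)), if_neg hx0]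
        simp
    rw [Finset.sum_congr rfl (fun x _ => hval x), Finset.sum_add_distrib, Finset.sum_ite_eq', if_pos (Finset.mem_univ y)] at hsum
    by_cases hy0 : y = 0
    · rw [hy0]
    rw [Finset.sum_eq_single (0 : Fin 351) (fun x _ hx => by by_cases hxy : x = y <;> simp [hxy, hx])
      (fun h => absurd (Finset.mem_univ _) h), if_neg (fun h => hy0 h.symm), if_pos rfl] at hsum
    have key : ∀ a b : K3, a + 2 * b = 0 → a = b := by decide
    exact key _ _ hsum
  have run : ∀ (st : List (ℕ × ℕ × ℕ)) (known : List ℕ), stepsK st known = true →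
      (∀ s ∈ known, ∀ hs : s < 351, e ⟨s, hs⟩ = e 0) → e x = e 0 := by
    intro st
    induction st with
    | nil =>
      intro known hk hknown
      simp only [stepsK, allF_iff, List.any_eq_true, Nat.beq_eq] at hk
      obtain ⟨y, hy, rfl⟩ := hk x x.2
      exact hknown _ hy x.2
    | cons q st ih =>
      obtain ⟨i, j, k⟩ := q
      intro known hk hknown
      simp only [stepsK, Bool.and_eq_true, List.any_eq_true, Nat.beq_eq] at hk
      obtain ⟨⟨⟨ht, a, ha, rfl⟩, b, hb, rfl⟩, hrest⟩ := hk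
      refine ih _ hrest fun s hs hs' => ?_
      rcases List.mem_cons.1 hs with rfl | hs
      · obtain ⟨i', j', k', hq, hz⟩ := tri _ _ _ ht
        simp only [Prod.mk.injEq] at hq
        obtain ⟨rfl, rfl, rfl⟩ := hq
        rw [hknown _ ha i'.2, hknown _ hb j'.2] at hz
        have key : ∀ a b : K3, a + a + b = 0 → b = a := by decide
        exact key _ _ hz
      · exact hknown s hs hs'
  exact run _ _ steps_ok hseed

/-- The shift of all sheets. -/
def shift (a : K3) : Equiv.Perm Sheet := liftP 1 fun _ => a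

theorem shift_comm (a : K3) (p : Equiv.Perm (Fin 351)) (c : Fin 351 → K3) :
    shift a * liftP p c = liftP p c * shift a := by
  rw [shift, liftP_mul, liftP_mul, one_mul, mul_one]
  exact congrArg (liftP p) (funext fun i => add_comm _ _)

theorem ker_eq {π : Gam} (h : π ∈ sigma.ker) : ∃ a, (π : Equiv.Perm Sheet) = shift a := by
  obtain ⟨c, e, hc⟩ := sigma₁_spec π
  have h1 : sigma₁ π = 1 := by rw [← psi_sigma, MonoidHom.mem_ker.1 h, map_one]
  rw [h1] at e hc
  exact ⟨c 0, e.trans (congrArg (liftP 1) (funext fun i => const_of_good hc i))⟩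

theorem ker_le_center : sigma.ker ≤ Subgroup.center Gam := by
  intro π hπ
  obtain ⟨a, ha⟩ := ker_eq hπ
  refine Subgroup.mem_center_iff.2 fun g => Subtype.ext ?_
  obtain ⟨c, e, -⟩ := sigma₁_spec g
  rw [Subgroup.coe_mul, Subgroup.coe_mul, ha, e]
  exact (shift_comm a _ c).symm

theorem actW_eq (w : List (Fin 4)) : ∀ x : Sheet,
    actW (w.map Fin.val) (x.1.val, x.2.val) =
      ((((w.map gG).prod : Gam) : Equiv.Perm Sheet) x).map (fun i => i.val) (fun a => a.val) := by
  intro x
  induction w with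
  | nil => rfl
  | cons m w ih =>
    show actN m (actW (w.map Fin.val) _) = _
    rw [ih, List.map_cons, List.prod_cons, Subgroup.coe_mul, Equiv.Perm.mul_apply]
    generalize (((w.map gG).prod : Gam) : Equiv.Perm Sheet) x = y
    show (imN m y.1.val, (y.2.val + shN m y.1.val) % 3) = (((psi (gen m)) y.1).val, (y.2 + sh m y.1).val)
    rw [imN_eq, sh, ZMod.val_add, ZMod.val_natCast, Nat.add_mod_mod]

theorem shift_commutator : ∃ π ∈ commutator Gam, (π : Equiv.Perm Sheet) = shift 1 := by
  let A : Gam := gG 0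
  let B : Gam := (([2, 0, 2, 0, 2] : List (Fin 4)).map gG).prod
  refine ⟨⁅A, B⁆, Subgroup.commutator_mem_commutator (Subgroup.mem_top A) (Subgroup.mem_top B), ?_⟩
  have hAB : ((A * B : Gam) : Equiv.Perm Sheet) = shift 1 * ((B * A : Gam) : Equiv.Perm Sheet) := by
    refine Equiv.ext fun x => ?_
    have h := allF_iff.1 (allF_iff.1 comm_all x.1 x.1.2) x.2.val (ZMod.val_lt x.2)
    simp only [Bool.and_eq_true, Nat.beq_eq] at h
    have hu := actW_eq [0, 2, 0, 2, 0, 2] x
    have hv := actW_eq [2, 0, 2, 0, 2, 0] x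
    have e1 : (([0, 2, 0, 2, 0, 2] : List (Fin 4)).map gG).prod = A * B := by simp [A, B, mul_assoc]
    have e2 : (([2, 0, 2, 0, 2, 0] : List (Fin 4)).map gG).prod = B * A := by simp [A, B, mul_assoc]
    rw [e1] at hu
    rw [e2] at hv
    have h1 : [0, 2, 0, 2, 0, 2] = ([0, 2, 0, 2, 0, 2] : List (Fin 4)).map Fin.val := rfl
    have h2 : [2, 0, 2, 0, 2, 0] = ([2, 0, 2, 0, 2, 0] : List (Fin 4)).map Fin.val := rfl
    rw [h1, h2, hu, hv] at h
    refine Prod.ext (Fin.ext h.1) (ZMod.val_injective 3 (h.2.trans ?_))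
    show _ = ((((B * A : Gam) : Equiv.Perm Sheet) x).2 + 1).val
    rw [ZMod.val_add]
    rfl
  rw [commutatorElement_def]
  have : (((A * B) * (B * A)⁻¹ : Gam) : Equiv.Perm Sheet) = shift 1 := by
    rw [Subgroup.coe_mul, hAB, Subgroup.coe_inv, mul_inv_cancel_right]
  rw [← this, _root_.mul_inv_rev, ← mul_assoc]

theorem shift_pow (a : K3) : shift 1 ^ a.val = shift a := by
  have h : ∀ n : ℕ, shift 1 ^ n = shift (n : K3) := by
    intro n
    induction n with
    | zero => exact Equiv.ext fun x => by simp [shift, liftP]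
    | succ n ih =>
      rw [pow_succ, ih, shift, shift, shift, liftP_mul, one_mul]
      exact congrArg (liftP 1) (funext fun _ => by push_cast; ring)
  rw [h, ZMod.natCast_zmod_val]

theorem isStem : Cfsg.IsStemExtension sigma := by
  refine ⟨sigma_surjective, ker_le_center, fun π hπ => ?_⟩
  obtain ⟨a, ha⟩ := ker_eq hπ
  obtain ⟨z, hz, ez⟩ := shift_commutator
  have : π = z ^ a.val := Subtype.ext (by rw [ha, Subgroup.coe_pow, ez, shift_pow])
  exact this ▸ Subgroup.pow_mem _ hz _

theorem card_ker : Nat.card sigma.ker = 3 := by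
  obtain ⟨z, hz, ez⟩ := shift_commutator
  have hzk : z ∈ sigma.ker := by
    obtain ⟨c, e, -⟩ := sigma₁_spec z
    rw [ez] at e
    refine MonoidHom.mem_ker.2 (psi_injective ?_)
    rw [psi_sigma, map_one, ← (liftP_inj e).1]
  let f : K3 → sigma.ker := fun a => ⟨z ^ a.val, Subgroup.pow_mem _ hzk _⟩
  have hf : Function.Bijective f := by
    constructor
    · intro a b h
      have := congrArg (fun q : sigma.ker => ((q : Gam) : Equiv.Perm Sheet) (0, 0)) h
      simp only [f, Subgroup.coe_pow, ez, shift_pow] at this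
      simpa [shift, liftP] using this
    · intro q
      obtain ⟨a, ha⟩ := ker_eq q.2
      exact ⟨a, Subtype.ext (Subtype.ext (by simp only [f, Subgroup.coe_pow, ez, shift_pow, ha]))⟩
  rw [← Nat.card_congr (Equiv.ofBijective f hf)]
  simp [Nat.card_eq_fintype_card]

end CfsgLib.Schur.GTwoThree
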