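import Cfsg.Agent.Lib.Schur.GTwoThree.Cover
import Cfsg.Agent.Lib.Schur.GTwoThree.Check2
import Cfsg.Agent.Lib.Schur.GTwoThree.Check3
import Cfsg.Agent.Lib.Chevalley.G2Two.Transfer

/-!
The multiplier of `G₂(3)` has order three.
-/

set_option autoImplicit false
set_option maxRecDepth 100000

namespace CfsgLib.Schur.GTwoThree

open CfsgLib.Sporadic.OutCert

attribute [local irreducible] lk pkF allF compK slpTab2 slpTab3 kk2 kk3 gk2 gk3 ordK baseK

theorem hw : 351 ≤ 2 ^ 9 := by norm_num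

theorem base_mem {tab : List ℕ} (h : tab.take 4 = baseK) :
    ∀ i < 4, ∃ q : G, Rep 9 351 (tab.getD i (oneK 9 351)) (psi q) := by
  intro i hi
  refine ⟨gen ⟨i, hi⟩, ?_⟩
  have hl : i < baseK.length := by
    have e : baseK.length = 4 := by decide +kernel
    omega
  have e : tab.getD i (oneK 9 351) = (tab.take 4).getD i (oneK 9 351) := by
    simp [List.getD_eq_getElem?_getD, List.getElem?_take, hi]
  rw [e, h, List.getD_eq_getElem _ _ hl, ← List.getD_eq_getElem _ 0 hl]
  exact gen_rep ⟨i, hi⟩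

theorem card_ker_le (Γ : Type) [Group Γ] [Finite Γ] (σ : Γ →* G) (hσ : Cfsg.IsStemExtension σ) :
    Nat.card σ.ker ≤ 3 := by
  haveI : Finite G := Nat.finite_of_card_ne_zero (by rw [card_G]; norm_num)
  refine Tails.card_ker_le σ hσ three_ne_zero fun p hp hd => ?_
  rw [card_G] at hd
  have hp' : p = 2 ∨ p = 3 ∨ p = 7 ∨ p = 13 := by
    have h1 : p ∣ 2 ^ 6 * 3 ^ 6 * 7 * 13 := hd
    have q : ∀ r : ℕ, r.Prime → p ∣ r → p = r := fun r hr h => (Nat.prime_dvd_prime_iff_eq hp hr).1 h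
    simp only [Nat.Prime.dvd_mul hp] at h1
    rcases h1 with ((h1 | h1) | h1) | h1
    · exact Or.inl (q 2 Nat.prime_two (hp.dvd_of_dvd_pow h1))
    · exact Or.inr (Or.inl (q 3 Nat.prime_three (hp.dvd_of_dvd_pow h1)))
    · exact Or.inr (Or.inr (Or.inl (q 7 (by norm_num) h1)))
    · exact Or.inr (Or.inr (Or.inr (q 13 (by norm_num) h1)))
  haveI := Fact.mk hp
  have hord : ∀ j < 2, ∀ m : ℕ, [7, 13].getD j 0 = m → m.Prime → ¬ m ^ 2 ∣ 4245696 →
      (Nat.card σ.ker).factorization m = 0 := by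
    intro j hj m hm hmp hm2
    haveI := Fact.mk hmp
    obtain ⟨h1, h2, h3⟩ := ord_ok
    have h := List.all_eq_true.1 h2 j (List.mem_range.2 hj)
    simp only [Bool.and_eq_true, Bool.not_eq_true', beq_eq_false_iff_ne, beq_iff_eq, hm] at h
    have hmem := Tails.exists_pick psi hw (Tails.exists_slp psi hw (base_mem slp3_ok.2) slp3_ok.1) h1 j
    have hdd : ordK.getD j (oneK 9 351) = ordK.getD j 0 := by
      rw [List.getD_eq_getElem _ _ (h3 ▸ hj), List.getD_eq_getElem _ _ (h3 ▸ hj)]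
    rw [hdd] at hmem
    obtain ⟨q, hq⟩ := Tails.exists_orderOf psi hw psi_injective hmem h.1.1 h.1.2 h.2
    exact Tails.factorization_card_ker_of_orderOf σ hσ q (k := 1) (by rw [hq, pow_one]) (by rwa [card_G])
  rcases hp' with rfl | rfl | rfl | rfl
  · obtain ⟨hs, hDp, hm, hb, hQ⟩ := cert2_shape
    have hs2 := Tails.exists_slp psi hw (base_mem slp2_ok.2) slp2_ok.1
    have := Tails.factorization_of_perm psi hw psi_injective cert2
      (Tails.exists_pick _ hw hs2 pick2_ok.1) (Tails.exists_pick _ hw hs2 pick2_ok.2)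
      cert2_eqs cert2_comb hs rels2_ok.1 rels2_ok.2 (p := 2) hDp hm all2_ok.1 all2_ok.2 inner2_ok.1 inner2_ok.2
      card_G hQ Γ σ hσ
    rw [hb, Nat.factorization_one] at this
    exact this.trans (Nat.zero_le _)
  · obtain ⟨hs, hDp, hm, hb, hQ⟩ := cert3_shape
    have hs3 := Tails.exists_slp psi hw (base_mem slp3_ok.2) slp3_ok.1
    have := Tails.factorization_of_perm psi hw psi_injective cert3
      (Tails.exists_pick _ hw hs3 pick3_ok.1) (Tails.exists_pick _ hw hs3 pick3_ok.2)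
      cert3_eqs cert3_comb hs rels3_ok.1 rels3_ok.2 (p := 3) hDp hm all3_ok.1 all3_ok.2 inner3_ok.1 inner3_ok.2
      card_G hQ Γ σ hσ
    rwa [hb] at this
  · rw [hord 0 (by norm_num) 7 rfl (by norm_num) (by norm_num)]; exact Nat.zero_le _
  · rw [hord 1 (by norm_num) 13 rfl (by norm_num) (by norm_num)]; exact Nat.zero_le _

theorem hasMultiplier : Cfsg.HasCyclicSchurMultiplier G 3 := by
  haveI : Finite G := Nat.finite_of_card_ne_zero (by rw [card_G]; norm_num)
  exact Basic.hasSchurMultiplier_of_le _ isStem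
    (mulEquivOfPrimeCardEq (p := 3) card_ker (by simp [Nat.card_eq_fintype_card]))
    fun Δ _ _ τ hτ => (card_ker_le Δ τ hτ).trans (le_of_eq (by simp [Nat.card_eq_fintype_card]))

/-- Over any field with three elements. -/
theorem hasMultiplier_group {F : Type*} [Field F] [Fintype F] (hF : Fintype.card F = 3) :
    Cfsg.HasCyclicSchurMultiplier ↥(Cfsg.Lie.chevG2.group F) 3 := by
  haveI : Finite G := Nat.finite_of_card_ne_zero (by rw [card_G]; norm_num)
  exact Basic.hasSchurMultiplier_of_mulEquiv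
    (CfsgLib.Chevalley.G2Two.groupEquiv (ZMod.ringEquivOfPrime F Nat.prime_three hF) Cfsg.Lie.chevG2) hasMultiplier

end CfsgLib.Schur.GTwoThree
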